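import Mathlib

set_option autoImplicit false

/-!
# The ideal `A^nat` of elements with divided powers (block G2b of the S16912 project)

`natI A = {a | ∀ n, n! ∣ a ^ n}`; an ideal of any commutative ring, functorial for all ring maps.
-/

namespace Groth.Agent.ResProp.EF.K785

open Finset Nat

universe u v

/-- `A^nat`: the elements `a` with `n! ∣ a ^ n` for all `n`. -/
def natI (A : Type u) [CommRing A] : Ideal A where
  carrier := {a | ∀ n : ℕ, ((n ! : ℕ) : A) ∣ a ^ n}
  zero_mem' := by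
    intro n
    rcases n with _ | n
    · simp
    · simp
  add_mem' := by
    intro a b ha hb n
    rw [add_pow]
    refine Finset.dvd_sum ?_
    intro i hi
    have hin : i ≤ n := by simpa [Nat.lt_succ_iff] using hi
    obtain ⟨x, hx⟩ := ha i
    obtain ⟨y, hy⟩ := hb (n - i)
    refine ⟨x * y, ?_⟩
    have h := Nat.choose_mul_factorial_mul_factorial hin
    have h' : ((n ! : ℕ) : A) = (n.choose i : A) * (i ! : ℕ) * ((n - i)! : ℕ) := by
      rw [← h]; push_cast; ring
    rw [hx, hy, h']; ring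
  smul_mem' := by
    intro c a ha n
    rw [smul_eq_mul, mul_pow]
    exact (ha n).mul_left _

theorem mem_natI {A : Type u} [CommRing A] {a : A} :
    a ∈ natI A ↔ ∀ n : ℕ, ((n ! : ℕ) : A) ∣ a ^ n := Iff.rfl

theorem map_mem_natI {A : Type u} {B : Type v} [CommRing A] [CommRing B] (f : A →+* B) {a : A}
    (ha : a ∈ natI A) : f a ∈ natI B := by
  intro n
  have := map_dvd f (ha n)
  simpa using this

theorem natI_le_comap {A : Type u} {B : Type v} [CommRing A] [CommRing B] (f : A →+* B) :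
    natI A ≤ (natI B).comap f := fun _ ha => map_mem_natI f ha

theorem map_natI_le {A : Type u} {B : Type v} [CommRing A] [CommRing B] (f : A →+* B) :
    (natI A).map f ≤ natI B := Ideal.map_le_iff_le_comap.2 (natI_le_comap f)

/-- if all integers prime to `p` are units of `A`, then `p ∈ A^nat`. -/
theorem prime_mem_natI {A : Type u} [CommRing A] (p : ℕ) [hp : Fact p.Prime]
    (hu : ∀ n : ℕ, ¬ p ∣ n → IsUnit (n : A)) : (p : A) ∈ natI A := by
  intro n
  have hn : (n)! ≠ 0 := Nat.factorial_ne_zero n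
  obtain ⟨k, m, hm, hk⟩ := Nat.exists_eq_pow_mul_and_not_dvd hn p hp.out.ne_one
  have hkn : k ≤ n := by
    have h1 : padicValNat p (n)! = k := by
      rw [hk, padicValNat.mul (pow_ne_zero _ hp.out.ne_zero) (by rintro rfl; simp at hm),
        padicValNat.prime_pow, padicValNat.eq_zero_of_not_dvd hm, add_zero]
    have h2 := sub_one_mul_padicValNat_factorial (p := p) n
    have h3 : 1 ≤ p - 1 := Nat.le_sub_one_of_lt hp.out.one_lt
    calc k = padicValNat p (n)! := h1.symm
      _ ≤ (p - 1) * padicValNat p (n)! := Nat.le_mul_of_pos_left _ h3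
      _ = n - (p.digits n).sum := h2
      _ ≤ n := Nat.sub_le _ _
  rw [hk]
  push_cast
  obtain ⟨c, hc⟩ := hu m hm
  refine ⟨(p : A) ^ (n - k) * (↑c⁻¹ : A), ?_⟩
  have : (p : A) ^ n = p ^ k * p ^ (n - k) := by rw [← pow_add, Nat.add_sub_cancel' hkn]
  rw [this, ← hc]
  have hcc : (c : A) * (↑c⁻¹ : A) = 1 := c.mul_inv
  calc (p : A) ^ k * p ^ (n - k) = p ^ k * p ^ (n - k) * ((c : A) * (↑c⁻¹ : A)) := by rw [hcc, mul_one]
    _ = p ^ k * ↑c * (p ^ (n - k) * ↑c⁻¹) := by ring

/-- `(p) ≤ A^nat`. -/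
theorem span_prime_le_natI {A : Type u} [CommRing A] (p : ℕ) [hp : Fact p.Prime]
    (hu : ∀ n : ℕ, ¬ p ∣ n → IsUnit (n : A)) : Ideal.span {(p : A)} ≤ natI A := by
  rw [Ideal.span_singleton_le_iff_mem]
  exact prime_mem_natI p hu

/-- elements of `A^nat` have `p`-th power divisible by `p`. -/
theorem dvd_pow_of_mem {A : Type u} [CommRing A] (p : ℕ) [hp : Fact p.Prime] {a : A}
    (ha : a ∈ natI A) : (p : A) ∣ a ^ p := by
  refine dvd_trans ?_ (ha p)
  exact_mod_cast Nat.cast_dvd_cast (α := A) (Nat.dvd_factorial hp.out.pos le_rfl)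

/-- if `B/p` is reduced then `B^nat ≤ (p)`. -/
theorem natI_le_span {B : Type u} [CommRing B] (p : ℕ) [hp : Fact p.Prime]
    (hr : IsReduced (B ⧸ Ideal.span {(p : B)})) : natI B ≤ Ideal.span {(p : B)} := by
  intro a ha
  rw [← Ideal.Quotient.eq_zero_iff_mem]
  refine pow_eq_zero_iff (n := p) hp.out.ne_zero |>.1 ?_
  rw [← map_pow, Ideal.Quotient.eq_zero_iff_mem, Ideal.mem_span_singleton]
  exact dvd_pow_of_mem p ha

theorem natI_eq_span {B : Type u} [CommRing B] (p : ℕ) [hp : Fact p.Prime]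
    (hu : ∀ n : ℕ, ¬ p ∣ n → IsUnit (n : B)) (hr : IsReduced (B ⧸ Ideal.span {(p : B)})) :
    natI B = Ideal.span {(p : B)} :=
  le_antisymm (natI_le_span p hr) (span_prime_le_natI p hu)

/-- divided powers of order `n ≥ 1` of elements of `A^nat` are again in `A^nat`. -/
theorem mem_natI_of_factorial_mul {A : Type u} [CommRing A]
    (ht : ∀ (n : ℕ), n ≠ 0 → ∀ x : A, (n : A) * x = 0 → x = 0) {a b : A} (ha : a ∈ natI A)
    {n : ℕ} (hn : n ≠ 0) (hb : ((n ! : ℕ) : A) * b = a ^ n) : b ∈ natI A := by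
  intro m
  obtain ⟨c, hc⟩ := ha (m * n)
  have h1 := Nat.uniformBell_mul_eq m hn
  refine ⟨(Nat.uniformBell m n : A) * c, ?_⟩
  have h2 : (((n ! ) ^ m : ℕ) : A) * (b ^ m - ((m ! : ℕ) : A) * ((Nat.uniformBell m n : A) * c)) = 0 := by
    have h3 : ((((m * n)! : ℕ)) : A) = (Nat.uniformBell m n : A) * ((n ! ) ^ m : ℕ) * (m ! : ℕ) := by
      rw [← h1]; push_cast; ring
    have h4 : (((n ! ) ^ m : ℕ) : A) * b ^ m = a ^ (m * n) := by
      push_cast
      rw [← mul_pow, hb, ← pow_mul, mul_comm n m]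
    rw [mul_sub, h4, hc, h3]; ring
  have h5 := ht _ (pow_ne_zero _ (Nat.factorial_ne_zero n)) _ h2
  exact sub_eq_zero.1 h5

/-- the invariant used for admissible groups: a ring map `B → A` with a ring retraction and
`A = B + A^nat`; then `B/p → A/A^nat` is bijective. -/
theorem bijective_quot {A B : Type u} [CommRing A] [CommRing B] (p : ℕ) [hp : Fact p.Prime]
    (huA : ∀ n : ℕ, ¬ p ∣ n → IsUnit (n : A)) (hr : IsReduced (B ⧸ Ideal.span {(p : B)}))
    (i : B →+* A) (ρ : A →+* B) (hρ : ρ.comp i = RingHom.id B)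
    (hs : ∀ a : A, ∃ b : B, a - i b ∈ natI A) :
    Function.Bijective (Ideal.quotientMap (natI A) i
      (show Ideal.span {(p : B)} ≤ (natI A).comap i from
        (Ideal.span_singleton_le_iff_mem _).2 (by
          rw [Ideal.mem_comap, map_natCast]; exact prime_mem_natI p huA))) := by
  constructor
  · rw [injective_iff_map_eq_zero]
    intro x hx
    obtain ⟨b, rfl⟩ := Ideal.Quotient.mk_surjective x
    rw [Ideal.quotientMap_mk, Ideal.Quotient.eq_zero_iff_mem] at hx
    rw [Ideal.Quotient.eq_zero_iff_mem]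
    refine natI_le_span p hr ?_
    have := map_mem_natI ρ hx
    rwa [← RingHom.comp_apply, hρ, RingHom.id_apply] at this
  · intro y
    obtain ⟨a, rfl⟩ := Ideal.Quotient.mk_surjective y
    obtain ⟨b, hb⟩ := hs a
    refine ⟨Ideal.Quotient.mk _ b, ?_⟩
    rw [Ideal.quotientMap_mk]
    exact (Ideal.Quotient.eq.2 hb).symm

end Groth.Agent.ResProp.EF.K785
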