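import Groth.Agent.ResProp.EF.K785.Nat

set_option autoImplicit false

/-!
# The divided power algebra `D_σ ⊆ K[x_σ]` over `k ⊆ K` (block G2b)
-/

namespace Groth.Agent.ResProp.EF.K785

open Finset Nat MvPolynomial

universe u v w

section fac

variable {σ : Type w} [Fintype σ]

/-- the factorial of a multi-index. -/
def mfac (a : σ →₀ ℕ) : ℕ := ∏ i, (a i)!

theorem mfac_ne_zero (a : σ →₀ ℕ) : mfac a ≠ 0 :=
  Finset.prod_ne_zero_iff.2 fun i _ => Nat.factorial_ne_zero (a i)

theorem mfac_mul_dvd (a b : σ →₀ ℕ) : mfac a * mfac b ∣ mfac (a + b) := by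
  unfold mfac
  rw [← Finset.prod_mul_distrib]
  exact Finset.prod_dvd_prod_of_dvd _ _ fun i _ =>
    Nat.factorial_mul_factorial_dvd_factorial_add (a i) (b i)

/-- the multinomial `(a+b)!/(a! b!)`. -/
noncomputable def mch (a b : σ →₀ ℕ) : ℕ := mfac (a + b) / (mfac a * mfac b)

theorem mch_mul (a b : σ →₀ ℕ) : mfac a * mfac b * mch a b = mfac (a + b) :=
  Nat.mul_div_cancel' (mfac_mul_dvd a b)

@[simp] theorem mfac_zero : mfac (0 : σ →₀ ℕ) = 1 := by simp [mfac]

theorem mfac_single [DecidableEq σ] (i : σ) (n : ℕ) : mfac (Finsupp.single i n) = n ! := by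
  unfold mfac
  rw [Finset.prod_eq_single i]
  · simp
  · intro j _ hj
    simp [Finsupp.single_eq_of_ne hj]
  · simp

end fac

variable (k : Type u) (K : Type v) (σ : Type w) [CommRing k] [Field K] [CharZero K] [Algebra k K]
  [Fintype σ]

/-- the divided power algebra on `σ` over `k`, inside `K[x_σ]`. -/
def Dpw : Subalgebra k (MvPolynomial σ K) where
  carrier := {f | ∀ a : σ →₀ ℕ, (mfac a : K) * coeff a f ∈ (algebraMap k K).range}
  zero_mem' := by
    intro a; simp
  add_mem' := by
    intro f g hf hg a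
    rw [coeff_add, mul_add]
    exact add_mem (hf a) (hg a)
  algebraMap_mem' := by
    intro r a
    classical
    rw [IsScalarTower.algebraMap_apply k K (MvPolynomial σ K), algebraMap_eq, coeff_C]
    split_ifs with h
    · subst h; simp
    · simp
  mul_mem' := by
    intro f g hf hg a
    classical
    rw [coeff_mul, Finset.mul_sum]
    refine sum_mem fun x hx => ?_
    have hx' : x.1 + x.2 = a := by simpa using hx
    have h := mch_mul x.1 x.2
    rw [hx'] at h
    have : (mfac a : K) * (coeff x.1 f * coeff x.2 g)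
        = (algebraMap k K (mch x.1 x.2 : k)) * ((mfac x.1 * coeff x.1 f) * (mfac x.2 * coeff x.2 g)) := by
      rw [← h]; push_cast; ring
    rw [this]
    exact mul_mem ⟨_, rfl⟩ (mul_mem (hf _) (hg _))

variable {k K σ}

theorem mem_Dpw {f : MvPolynomial σ K} :
    f ∈ Dpw k K σ ↔ ∀ a : σ →₀ ℕ, (mfac a : K) * coeff a f ∈ (algebraMap k K).range := Iff.rfl

variable (k K) in
/-- the basis element `x^a/a!`. -/
noncomputable def gam (a : σ →₀ ℕ) : Dpw k K σ :=
  ⟨monomial a ((mfac a : K)⁻¹), by
    intro b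
    classical
    rw [coeff_monomial]
    split_ifs with h
    · subst h
      rw [mul_inv_cancel₀ (by exact_mod_cast mfac_ne_zero a)]
      exact one_mem _
    · simp⟩

theorem coe_gam (a : σ →₀ ℕ) : ((gam k K a : Dpw k K σ) : MvPolynomial σ K)
    = monomial a ((mfac a : K)⁻¹) := rfl

theorem gam_zero : gam k K (0 : σ →₀ ℕ) = 1 := by
  apply Subtype.ext
  rw [coe_gam]
  simp

theorem gam_mul (a b : σ →₀ ℕ) : gam k K a * gam k K b = (mch a b : Dpw k K σ) * gam k K (a + b) := by
  apply Subtype.ext
  rw [Subalgebra.coe_mul, Subalgebra.coe_mul, coe_gam, coe_gam, coe_gam, monomial_mul]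
  have h := mch_mul a b
  have h0 : (mfac a : K) ≠ 0 := by exact_mod_cast mfac_ne_zero a
  have h1 : (mfac b : K) ≠ 0 := by exact_mod_cast mfac_ne_zero b
  have h2 : (mfac (a + b) : K) ≠ 0 := by exact_mod_cast mfac_ne_zero (a + b)
  have h3 : (mfac (a + b) : K) = mfac a * mfac b * mch a b := by exact_mod_cast h.symm
  have h4 : (((mch a b : Dpw k K σ)) : MvPolynomial σ K) = C (mch a b : K) := by
    simp
  rw [h4, C_mul_monomial]
  congr 1
  rw [h3]
  have h5 : (mch a b : K) ≠ 0 := by
    intro h6; rw [h6, mul_zero] at h3; exact h2 h3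
  field_simp

/-- torsion-freeness of `D`. -/
theorem Dpw_torsionFree (n : ℕ) (hn : n ≠ 0) (x : Dpw k K σ) (hx : (n : Dpw k K σ) * x = 0) :
    x = 0 := by
  apply Subtype.ext
  have : ((n : Dpw k K σ) : MvPolynomial σ K) * x = 0 := by
    rw [← Subalgebra.coe_mul, hx]; rfl
  have h2 : ((n : Dpw k K σ) : MvPolynomial σ K) = C (n : K) := by simp
  rw [h2] at this
  rcases mul_eq_zero.1 this with h | h
  · exfalso
    rw [C_eq_zero] at h
    exact hn (by exact_mod_cast h)
  · simpa using h

section basis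

variable [FaithfulSMul k K]

theorem linearCombination_gam_coe (l : (σ →₀ ℕ) →₀ k) (b : σ →₀ ℕ) :
    coeff b ((Finsupp.linearCombination k (gam k K) l : Dpw k K σ) : MvPolynomial σ K)
      = algebraMap k K (l b) * (mfac b : K)⁻¹ := by
  classical
  rw [Finsupp.linearCombination_apply, Finsupp.sum]
  rw [show (((∑ a ∈ l.support, l a • gam k K a : Dpw k K σ)) : MvPolynomial σ K)
      = ∑ a ∈ l.support, l a • ((gam k K a : Dpw k K σ) : MvPolynomial σ K) by
    simp]
  rw [coeff_sum]
  simp only [coe_gam, coeff_smul, coeff_monomial]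
  rw [Finset.sum_eq_single b]
  · simp [Algebra.smul_def]
  · intro c _ hc; simp [hc]
  · intro hb
    simp [Finsupp.notMem_support_iff.1 hb]

theorem linearCombination_gam_bijective :
    Function.Bijective (Finsupp.linearCombination k (gam k K : (σ →₀ ℕ) → Dpw k K σ)) := by
  constructor
  · rw [injective_iff_map_eq_zero]
    intro l hl
    ext b
    have h := linearCombination_gam_coe (K := K) l b
    rw [hl] at h
    have h2 : ((mfac b : K))⁻¹ ≠ 0 := inv_ne_zero (by exact_mod_cast mfac_ne_zero b)
    have h3 : algebraMap k K (l b) = 0 := by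
      have : (0 : K) = algebraMap k K (l b) * (mfac b : K)⁻¹ := by simpa using h
      rcases mul_eq_zero.1 this.symm with h | h
      · exact h
      · exact absurd h h2
    exact (FaithfulSMul.algebraMap_injective k K) (by simpa using h3)
  · intro f
    choose c hc using f.2
    refine ⟨Finsupp.onFinset (f : MvPolynomial σ K).support c ?_, ?_⟩
    · intro a ha
      rw [MvPolynomial.mem_support_iff]
      intro h0
      apply ha
      apply FaithfulSMul.algebraMap_injective k K
      rw [hc a, h0]; simp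
    · apply Subtype.ext
      ext b
      rw [linearCombination_gam_coe, Finsupp.onFinset_apply, hc b]
      have : (mfac b : K) ≠ 0 := by exact_mod_cast mfac_ne_zero b
      field_simp

variable (k K σ) in
/-- `D` is free on the `x^a/a!`. -/
noncomputable def gamBasis : Module.Basis (σ →₀ ℕ) k (Dpw k K σ) :=
  Module.Basis.ofRepr (LinearEquiv.ofBijective _ linearCombination_gam_bijective).symm

theorem gamBasis_apply (a : σ →₀ ℕ) : gamBasis k K σ a = gam k K a := by
  change (LinearEquiv.ofBijective _ linearCombination_gam_bijective).symm.symm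
    (Finsupp.single a 1) = _
  rw [LinearEquiv.symm_symm, LinearEquiv.ofBijective_apply, Finsupp.linearCombination_single,
    one_smul]

instance : Module.Free k (Dpw k K σ) := Module.Free.of_basis (gamBasis k K σ)

end basis

section nat

variable [DecidableEq σ]

variable (k K) in
/-- the variable `x_i` as an element of `D`. -/
noncomputable def dX (i : σ) : Dpw k K σ := gam k K (Finsupp.single i 1)

theorem coe_dX (i : σ) : ((dX k K i : Dpw k K σ) : MvPolynomial σ K) = X i := by
  rw [dX, coe_gam, mfac_single]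
  simp [X]

theorem dX_pow (i : σ) (n : ℕ) :
    (dX k K i) ^ n = ((n ! : ℕ) : Dpw k K σ) * gam k K (Finsupp.single i n) := by
  apply Subtype.ext
  rw [Subalgebra.coe_pow, Subalgebra.coe_mul, coe_dX, coe_gam, mfac_single]
  have h4 : ((((n ! : ℕ) : Dpw k K σ)) : MvPolynomial σ K) = C ((n ! : ℕ) : K) := by simp
  rw [h4, C_mul_monomial, mul_inv_cancel₀ (by exact_mod_cast Nat.factorial_ne_zero n), X_pow_eq_monomial]

theorem dX_mem_natI (i : σ) : (dX k K i : Dpw k K σ) ∈ natI (Dpw k K σ) := by
  intro n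
  exact ⟨_, dX_pow i n⟩

theorem gam_single_mem_natI (i : σ) {n : ℕ} (hn : n ≠ 0) :
    (gam k K (Finsupp.single i n) : Dpw k K σ) ∈ natI (Dpw k K σ) :=
  mem_natI_of_factorial_mul Dpw_torsionFree (dX_mem_natI i) hn (dX_pow i n).symm

theorem gam_mem_natI {a : σ →₀ ℕ} (ha : a ≠ 0) :
    (gam k K a : Dpw k K σ) ∈ natI (Dpw k K σ) := by
  obtain ⟨i, hi⟩ : ∃ i, a i ≠ 0 := by
    by_contra h
    push Not at h
    exact ha (Finsupp.ext h)
  have h1 : a = Finsupp.single i (a i) + a.erase i := (Finsupp.single_add_erase i a).symm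
  have h2 : gam k K (Finsupp.single i (a i)) * gam k K (a.erase i) = gam k K a := by
    apply Subtype.ext
    rw [Subalgebra.coe_mul, coe_gam, coe_gam, coe_gam, monomial_mul, ← h1]
    congr 1
    rw [← mul_inv, ← Nat.cast_mul]
    congr 2
    unfold mfac
    rw [← Finset.prod_mul_distrib]
    refine Finset.prod_congr rfl fun j _ => ?_
    by_cases hj : j = i
    · subst hj; simp
    · simp [Finsupp.single_eq_of_ne hj, Finsupp.erase_ne hj]
  rw [← h2]
  exact Ideal.mul_mem_right _ _ (gam_single_mem_natI i hi)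

/-- every element of `D` is a constant plus an element of `D^nat`. -/
theorem exists_sub_mem_natI [FaithfulSMul k K] (f : Dpw k K σ) :
    ∃ c : k, f - algebraMap k (Dpw k K σ) c ∈ natI (Dpw k K σ) := by
  refine ⟨gamBasis k K σ |>.repr f 0, ?_⟩
  have h := (gamBasis k K σ).linearCombination_repr f
  rw [Finsupp.linearCombination_apply, Finsupp.sum] at h
  nth_rewrite 1 [← h]
  by_cases h0 : (0 : σ →₀ ℕ) ∈ ((gamBasis k K σ).repr f).support
  · rw [← Finset.add_sum_erase _ _ h0, gamBasis_apply, gam_zero, Algebra.algebraMap_eq_smul_one,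
      add_sub_cancel_left]
    refine sum_mem fun a ha => ?_
    rw [gamBasis_apply, Algebra.smul_def]
    exact Ideal.mul_mem_left _ _ (gam_mem_natI (Finset.ne_of_mem_erase ha))
  · rw [Finsupp.notMem_support_iff.1 h0, map_zero, sub_zero]
    refine sum_mem fun a ha => ?_
    rw [gamBasis_apply, Algebra.smul_def]
    exact Ideal.mul_mem_left _ _ (gam_mem_natI (by rintro rfl; exact h0 ha))

end nat

section lift

variable [FaithfulSMul k K] [DecidableEq σ]

variable {B : Type*} [CommRing B] [Algebra k B]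

theorem alg_hom_gam_single (f : Dpw k K σ →ₐ[k] B) (i : σ) (n : ℕ) :
    ((n ! : ℕ) : B) * f (gam k K (Finsupp.single i n)) = f (dX k K i) ^ n := by
  rw [← map_pow, dX_pow, map_mul, map_natCast]

theorem mfac_mul_gam (a : σ →₀ ℕ) :
    ((mfac a : ℕ) : Dpw k K σ) * gam k K a = ∏ i, (dX k K i) ^ (a i) := by
  apply Subtype.ext
  rw [Subalgebra.coe_mul, coe_gam, SubmonoidClass.coe_finset_prod]
  simp only [Subalgebra.coe_pow, coe_dX]
  have h4 : ((((mfac a : ℕ) : Dpw k K σ)) : MvPolynomial σ K) = C ((mfac a : ℕ) : K) := by simp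
  rw [h4, C_mul_monomial, mul_inv_cancel₀ (by exact_mod_cast mfac_ne_zero a), monomial_eq,
    Finsupp.prod_fintype _ _ (by simp)]
  simp

/-- two algebra maps out of `D` into a torsion-free algebra agreeing on the variables are equal. -/
theorem Dpw_hom_ext (ht : ∀ (n : ℕ), n ≠ 0 → ∀ x : B, (n : B) * x = 0 → x = 0)
    {f g : Dpw k K σ →ₐ[k] B} (h : ∀ i, f (dX k K i) = g (dX k K i)) : f = g := by
  have key : ∀ a, f (gam k K a) = g (gam k K a) := by
    intro a
    have h1 : ((mfac a : ℕ) : B) * (f (gam k K a) - g (gam k K a)) = 0 := by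
      have hf : ((mfac a : ℕ) : B) * f (gam k K a) = ∏ i, f (dX k K i) ^ (a i) := by
        rw [← map_natCast f, ← map_mul, mfac_mul_gam, map_prod]; simp
      have hg : ((mfac a : ℕ) : B) * g (gam k K a) = ∏ i, g (dX k K i) ^ (a i) := by
        rw [← map_natCast g, ← map_mul, mfac_mul_gam, map_prod]; simp
      rw [mul_sub, hf, hg]
      simp [h]
    exact sub_eq_zero.1 (ht _ (mfac_ne_zero a) _ h1)
  have : f.toLinearMap = g.toLinearMap := by
    refine (gamBasis k K σ).ext fun a => ?_
    rw [gamBasis_apply]; exact key a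
  exact AlgHom.toLinearMap_injective this

/-- the universal property: `(B^nat)^σ → Hom(D, B)` for torsion-free `B`. -/
theorem exists_lift (ht : ∀ (n : ℕ), n ≠ 0 → ∀ x : B, (n : B) * x = 0 → x = 0)
    (x : σ → B) (hx : ∀ i, x i ∈ natI B) :
    ∃ f : Dpw k K σ →ₐ[k] B, ∀ i, f (dX k K i) = x i := by
  choose d hd using fun i n => hx i n
  -- `hd i n : x i ^ n = n! * d i n`
  let L : Dpw k K σ →ₗ[k] B := (gamBasis k K σ).constr k fun a => ∏ i, d i (a i)
  have hL : ∀ a, L (gam k K a) = ∏ i, d i (a i) := by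
    intro a
    rw [← gamBasis_apply]
    exact (gamBasis k K σ).constr_basis k _ a
  have hLf : ∀ a, ((mfac a : ℕ) : B) * L (gam k K a) = ∏ i, x i ^ (a i) := by
    intro a
    rw [hL, mfac, Nat.cast_prod, ← Finset.prod_mul_distrib]
    exact Finset.prod_congr rfl fun i _ => (hd i (a i)).symm
  have h1 : L 1 = 1 := by
    have := hLf 0
    rw [gam_zero] at this
    simpa using this
  have hmul : ∀ a b, L (gam k K a * gam k K b) = L (gam k K a) * L (gam k K b) := by
    intro a b
    have e1 : L (gam k K a * gam k K b) = (mch a b : B) * L (gam k K (a + b)) := by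
      rw [gam_mul, ← nsmul_eq_mul, map_nsmul, nsmul_eq_mul]
    have e2 : (((mfac a * mfac b : ℕ)) : B) *
        (L (gam k K a * gam k K b) - L (gam k K a) * L (gam k K b)) = 0 := by
      have e3 : ((mfac (a + b) : ℕ) : B) = (mfac a : B) * (mfac b : B) * (mch a b : B) := by
        rw [← mch_mul a b]; push_cast; ring
      have e4 := hLf (a + b)
      rw [e3] at e4
      have e5 : (((mfac a * mfac b : ℕ)) : B) * (L (gam k K a) * L (gam k K b))
          = (∏ i, x i ^ (a i)) * ∏ i, x i ^ (b i) := by
        rw [← hLf a, ← hLf b]; push_cast; ring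
      rw [mul_sub, e1, e5, ← Finset.prod_mul_distrib]
      have e6 : ∏ i, x i ^ ((a + b) i) = ∏ i, (x i ^ (a i) * x i ^ (b i)) :=
        Finset.prod_congr rfl fun i _ => by rw [Finsupp.add_apply, pow_add]
      rw [← e6, ← e4]; push_cast; ring
    exact sub_eq_zero.1 (ht _ (mul_ne_zero (mfac_ne_zero a) (mfac_ne_zero b)) _ e2)
  have hmul' : ∀ f g : Dpw k K σ, L (f * g) = L f * L g := by
    have : (LinearMap.mul k (Dpw k K σ)).compr₂ L
        = (LinearMap.mul k B).compl₁₂ L L := by
      refine (gamBasis k K σ).ext fun a => (gamBasis k K σ).ext fun b => ?_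
      simp only [gamBasis_apply, LinearMap.compr₂_apply, LinearMap.mul_apply', LinearMap.compl₁₂_apply]
      exact hmul a b
    intro f g
    have h := congrArg (fun T => T f g) this
    simpa using h
  refine ⟨AlgHom.ofLinearMap L h1 hmul', fun i => ?_⟩
  have h := hLf (Finsupp.single i 1)
  rw [mfac_single] at h
  have h2 : ∏ j, x j ^ ((Finsupp.single i 1 : σ →₀ ℕ) j) = x i := by
    rw [Finset.prod_eq_single i]
    · simp
    · intro j _ hj; simp [Finsupp.single_eq_of_ne hj]
    · simp
  rw [h2] at h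
  simpa [dX] using h

/-- the universal property as an equivalence. -/
noncomputable def homEquiv (ht : ∀ (n : ℕ), n ≠ 0 → ∀ x : B, (n : B) * x = 0 → x = 0) :
    (Dpw k K σ →ₐ[k] B) ≃ (σ → natI B) where
  toFun f i := ⟨f (dX k K i), map_mem_natI f.toRingHom (dX_mem_natI i)⟩
  invFun x := (exists_lift ht (fun i => (x i : B)) fun i => (x i).2).choose
  left_inv f := Dpw_hom_ext ht fun i =>
    (exists_lift ht (fun i => f (dX k K i)) fun i =>
      map_mem_natI f.toRingHom (dX_mem_natI i)).choose_spec i
  right_inv x := by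
    funext i
    apply Subtype.ext
    exact (exists_lift ht (fun i => (x i : B)) fun i => (x i).2).choose_spec i

end lift

end Groth.Agent.ResProp.EF.K785
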