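import Groth.Agent.ResProp.EF.K785.Nat

set_option autoImplicit false

/-!
# Divided power monomials of `nat` elements in a torsion-free ring, and their derivations
-/

universe u

namespace Groth.Agent.ResProp.EF.K785

noncomputable section

/-- torsion-free -/
abbrev TF0 (B : Type u) [CommRing B] : Prop := ∀ (n : ℕ), n ≠ 0 → ∀ x : B, (n : B) * x = 0 → x = 0

section dp

variable {B : Type u} [CommRing B]

/-- divided powers of a `nat` element -/
def dp (a : natI B) (n : ℕ) : B := (a.2 n).choose

theorem dp_spec (a : natI B) (n : ℕ) : (a : B) ^ n = (n.factorial : B) * dp a n := (a.2 n).choose_spec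

theorem dp_eq (ht : TF0 B) (a : natI B) (n : ℕ) (c : B) (h : (a : B) ^ n = (n.factorial : B) * c) :
    dp a n = c := by
  have h1 : (n.factorial : B) * (dp a n - c) = 0 := by rw [mul_sub, ← dp_spec, ← h, sub_self]
  exact sub_eq_zero.1 (ht _ n.factorial_ne_zero _ h1)

theorem dp_zero (a : natI B) : dp a 0 = 1 := by
  have := dp_spec a 0
  simpa using this.symm

theorem dp_one (a : natI B) : dp a 1 = a := by
  have := dp_spec a 1
  simpa using this.symm

theorem dp_mul (ht : TF0 B) (a : natI B) (m n : ℕ) :
    dp a m * dp a n = ((m + n).choose m : B) * dp a (m + n) := by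
  have h1 : ((m.factorial * n.factorial : ℕ) : B) * (dp a m * dp a n -
      ((m + n).choose m : B) * dp a (m + n)) = 0 := by
    have h2 := Nat.choose_mul_factorial_mul_factorial (Nat.le_add_right m n)
    rw [Nat.add_sub_cancel_left] at h2
    have h3 : (((m + n).factorial : ℕ) : B) = ((m + n).choose m : B) * m.factorial * n.factorial := by
      rw [← h2]; push_cast; ring
    have h4 := dp_spec a (m + n)
    rw [pow_add, dp_spec a m, dp_spec a n, h3] at h4
    push_cast
    linear_combination h4
  exact sub_eq_zero.1 (ht _ (Nat.mul_ne_zero m.factorial_ne_zero n.factorial_ne_zero) _ h1)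

theorem map_dp {C : Type u} [CommRing C] (htC : TF0 C) (f : B →+* C) (a : natI B) (n : ℕ) :
    f (dp a n) = dp ⟨f a, map_mem_natI f a.2⟩ n := by
  refine (dp_eq htC _ n _ ?_).symm
  change f (a : B) ^ n = _
  rw [← map_pow, dp_spec, map_mul, map_natCast]

/-- a derivation-like additive map on divided powers -/
theorem der_dp (ht : TF0 B) (D : B →+ B) (hD : ∀ x y, D (x * y) = x * D y + y * D x) (a : natI B)
    (n : ℕ) : D (dp a (n + 1)) = dp a n * D a := by
  have hpow : ∀ n : ℕ, D ((a : B) ^ (n + 1)) = ((n + 1 : ℕ) : B) * (a : B) ^ n * D a := by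
    intro n
    induction n with
    | zero => simp
    | succ n ih =>
      rw [pow_succ, hD, ih]
      push_cast
      ring
  have hn : ∀ (m : ℕ) (x : B), D ((m : B) * x) = (m : B) * D x := by
    intro m x
    rw [← nsmul_eq_mul, map_nsmul, nsmul_eq_mul]
  have h1 : (((n + 1).factorial : ℕ) : B) * (D (dp a (n + 1)) - dp a n * D a) = 0 := by
    have h2 := hpow n
    rw [dp_spec a (n + 1), hn, dp_spec a n] at h2
    rw [mul_sub, h2, Nat.factorial_succ]
    push_cast
    ring
  exact sub_eq_zero.1 (ht _ (n + 1).factorial_ne_zero _ h1)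

theorem der_dp_zero (D : B →+ B) (hD : ∀ x y, D (x * y) = x * D y + y * D x) (a : natI B) :
    D (dp a 0) = 0 := by
  rw [dp_zero]
  have := hD 1 1
  simp only [mul_one, one_mul] at this
  exact left_eq_add.1 this

/-- a divided power in a subring -/
theorem mem_natI_sub {k : Type u} [CommRing k] [Algebra k B] (R : Subalgebra k B) (a : natI B)
    (ha : ∀ n, dp a n ∈ R) :
    (⟨a, by simpa [dp_one] using ha 1⟩ : R) ∈ natI R := by
  intro n
  refine ⟨⟨dp a n, ha n⟩, ?_⟩
  apply Subtype.ext
  simpa using dp_spec a n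

end dp

section mon

variable {B : Type u} [CommRing B] {r : ℕ}

/-- divided power monomials -/
def mon (y : Fin r → natI B) (m : Fin r →₀ ℕ) : B := ∏ i, dp (y i) (m i)

theorem mon_zero (y : Fin r → natI B) : mon y 0 = 1 := by
  simp [mon, dp_zero]

theorem mon_mul (ht : TF0 B) (y : Fin r → natI B) (m m' : Fin r →₀ ℕ) :
    mon y m * mon y m' = ((∏ i, (m i + m' i).choose (m i) : ℕ) : B) * mon y (m + m') := by
  rw [mon, mon, mon, ← Finset.prod_mul_distrib]
  push_cast
  rw [← Finset.prod_mul_distrib]
  exact Finset.prod_congr rfl fun i _ => dp_mul ht _ _ _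

theorem mon_single (y : Fin r → natI B) (i : Fin r) (n : ℕ) :
    mon y (Finsupp.single i n) = dp (y i) n := by
  classical
  rw [mon, Finset.prod_eq_single i]
  · simp
  · intro j _ hj
    rw [Finsupp.single_apply, if_neg (Ne.symm hj), dp_zero]
  · simp

theorem der_prod (D : B →+ B) (hD : ∀ x y, D (x * y) = x * D y + y * D x) {ι : Type*}
    (s : Finset ι) (f : ι → B) (h : ∀ j ∈ s, D (f j) = 0) : D (∏ j ∈ s, f j) = 0 := by
  classical
  induction s using Finset.induction_on with
  | empty =>
    have := hD 1 1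
    simp only [mul_one, one_mul] at this
    simpa using left_eq_add.1 this
  | insert a s ha ih =>
    rw [Finset.prod_insert ha, hD, h a (Finset.mem_insert_self _ _),
      ih fun j hj => h j (Finset.mem_insert_of_mem hj)]
    simp

/-- a derivation with `D y_j = δ_ij` on a monomial containing `y_i`. -/
theorem der_mon_add (ht : TF0 B) (D : B →+ B) (hD : ∀ x y, D (x * y) = x * D y + y * D x)
    (y : Fin r → natI B) (i : Fin r) (h : ∀ j, D (y j) = if j = i then 1 else 0) (m : Fin r →₀ ℕ) :
    D (mon y (m + Finsupp.single i 1)) = mon y m := by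
  classical
  have h0 : ∀ j, j ≠ i → ∀ n, D (dp (y j) n) = 0 := by
    intro j hj n
    rcases n with _ | n
    · exact der_dp_zero D hD _
    · rw [der_dp ht D hD, h j, if_neg hj, mul_zero]
  have key : ∀ m : Fin r →₀ ℕ, mon y m = dp (y i) (m i) * ∏ j ∈ Finset.univ.erase i, dp (y j) (m j) := by
    intro m
    rw [mon, ← Finset.mul_prod_erase _ _ (Finset.mem_univ i)]
  have h1 : ∏ j ∈ Finset.univ.erase i, dp (y j) ((m + Finsupp.single i 1 : Fin r →₀ ℕ) j) =
      ∏ j ∈ Finset.univ.erase i, dp (y j) (m j) := by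
    refine Finset.prod_congr rfl fun j hj => ?_
    have : j ≠ i := Finset.ne_of_mem_erase hj
    rw [Finsupp.add_apply, Finsupp.single_apply, if_neg (Ne.symm this), add_zero]
  rw [key, key m, h1, hD, der_prod D hD _ _ fun j hj => h0 j (Finset.ne_of_mem_erase hj) _]
  have h2 : (m + Finsupp.single i 1 : Fin r →₀ ℕ) i = m i + 1 := by simp
  rw [h2, der_dp ht D hD, h i, if_pos rfl]
  ring

theorem der_mon_zero (ht : TF0 B) (D : B →+ B) (hD : ∀ x y, D (x * y) = x * D y + y * D x)
    (y : Fin r → natI B) (i : Fin r) (h : ∀ j, D (y j) = if j = i then 1 else 0) (m : Fin r →₀ ℕ)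
    (hm : m i = 0) : D (mon y m) = 0 := by
  classical
  refine der_prod D hD _ _ fun j _ => ?_
  by_cases hj : j = i
  · subst hj
    rw [hm]
    exact der_dp_zero D hD _
  · rcases m j with _ | n
    · exact der_dp_zero D hD _
    · rw [der_dp ht D hD, h j, if_neg hj, mul_zero]

/-- a ring map killing the `y_i` kills the monomials of positive degree. -/
theorem map_mon_eq_zero {C : Type u} [CommRing C] (htC : TF0 C) (f : B →+* C) (y : Fin r → natI B)
    (h : ∀ i, f (y i) = 0) (m : Fin r →₀ ℕ) (hm : m ≠ 0) : f (mon y m) = 0 := by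
  classical
  obtain ⟨i, hi⟩ : ∃ i, m i ≠ 0 := by
    by_contra hcon
    push Not at hcon
    exact hm (Finsupp.ext hcon)
  rw [mon, map_prod]
  refine Finset.prod_eq_zero (Finset.mem_univ i) ?_
  rw [map_dp htC]
  apply dp_eq htC
  change f (y i) ^ m i = _
  rw [h i, zero_pow hi, mul_zero]

end mon

section Phi

variable {k A B : Type u} [CommRing k] [CommRing A] [CommRing B] [Algebra k A] [Algebra k B]
variable (ι : A →ₐ[k] B) {r : ℕ} (y : Fin r → natI B)

/-- `b ↦ Σ ι(b_m) y^[m]`. -/
def Phi : ((Fin r →₀ ℕ) →₀ A) →ₗ[k] B :=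
  Finsupp.lsum k fun m => (LinearMap.mulRight k (mon y m)) ∘ₗ ι.toLinearMap

@[simp] theorem Phi_single (m : Fin r →₀ ℕ) (a : A) :
    Phi ι y (Finsupp.single m a) = ι a * mon y m := by
  simp [Phi]

/-- the range of `Phi` is a subalgebra. -/
def PhiSub (ht : TF0 B) : Subalgebra k B where
  carrier := Set.range (Phi ι y)
  zero_mem' := ⟨0, map_zero _⟩
  one_mem' := ⟨Finsupp.single 0 1, by simp [mon_zero]⟩
  add_mem' := by
    rintro _ _ ⟨f, rfl⟩ ⟨g, rfl⟩
    exact ⟨f + g, map_add _ _ _⟩
  mul_mem' := by
    rintro _ _ ⟨f, rfl⟩ ⟨g, rfl⟩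
    induction f using Finsupp.induction_linear with
    | zero => exact ⟨0, by simp⟩
    | add f f' h h' =>
      obtain ⟨a, ha⟩ := h
      obtain ⟨a', ha'⟩ := h'
      exact ⟨a + a', by rw [map_add, map_add, add_mul, ha, ha']⟩
    | single m a =>
      induction g using Finsupp.induction_linear with
      | zero => exact ⟨0, by simp⟩
      | add f f' h h' =>
        obtain ⟨a, ha⟩ := h
        obtain ⟨a', ha'⟩ := h'
        exact ⟨a + a', by rw [map_add, map_add, mul_add, ha, ha']⟩
      | single m' a' =>
        refine ⟨Finsupp.single (m + m') (((∏ i, (m i + m' i).choose (m i) : ℕ) : A) * (a * a')), ?_⟩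
        rw [Phi_single, Phi_single, Phi_single, map_mul, map_mul, map_natCast]
        have := mon_mul ht y m m'
        calc _ = ι a * ι a' * (((∏ i, (m i + m' i).choose (m i) : ℕ) : B) * mon y (m + m')) := by ring
          _ = _ := by rw [← this]; ring
  algebraMap_mem' := fun c => ⟨Finsupp.single 0 (algebraMap k A c), by simp [mon_zero]⟩

theorem mem_PhiSub (ht : TF0 B) (b : B) : b ∈ PhiSub ι y ht ↔ ∃ f, Phi ι y f = b := Iff.rfl

theorem ι_mem_PhiSub (ht : TF0 B) (a : A) : ι a ∈ PhiSub ι y ht :=
  ⟨Finsupp.single 0 a, by simp [mon_zero]⟩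

theorem dp_mem_PhiSub (ht : TF0 B) (i : Fin r) (n : ℕ) : dp (y i) n ∈ PhiSub ι y ht :=
  ⟨Finsupp.single (Finsupp.single i n) 1, by simp [mon_single]⟩

/-- `A`-linearity -/
theorem Phi_smul (a : A) (f : (Fin r →₀ ℕ) →₀ A) : Phi ι y (a • f) = ι a * Phi ι y f := by
  induction f using Finsupp.induction_linear with
  | zero => simp
  | add f g hf hg => rw [smul_add, map_add, map_add, hf, hg, mul_add]
  | single m b => rw [Finsupp.smul_single, Phi_single, Phi_single, smul_eq_mul, map_mul, mul_assoc]

/-- the shift -/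
def shiftI (i : Fin r) : ((Fin r →₀ ℕ) →₀ A) →ₗ[k] ((Fin r →₀ ℕ) →₀ A) :=
  Finsupp.lcomapDomain (fun m => m + Finsupp.single i 1) (add_left_injective _)

theorem shiftI_apply (i : Fin r) (f : (Fin r →₀ ℕ) →₀ A) (m : Fin r →₀ ℕ) :
    shiftI (k := k) i f m = f (m + Finsupp.single i 1) := rfl

/-- the derivation `D_i` becomes the shift. -/
theorem der_Phi (ht : TF0 B) (D : B →ₗ[k] B) (hD : ∀ x y, D (x * y) = x * D y + y * D x)
    (hι : ∀ a, D (ι a) = 0) (i : Fin r) (h : ∀ j, D (y j) = if j = i then 1 else 0)
    (f : (Fin r →₀ ℕ) →₀ A) : D (Phi ι y f) = Phi ι y (shiftI (k := k) i f) := by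
  classical
  induction f using Finsupp.induction_linear with
  | zero => simp
  | add f g hf hg => rw [map_add, map_add, hf, hg, map_add, map_add]
  | single m b =>
    rw [Phi_single, hD, hι, mul_zero, add_zero]
    by_cases hm : m i = 0
    · have h1 : D (mon y m) = 0 := der_mon_zero ht D.toAddMonoidHom hD y i h m hm
      rw [h1, mul_zero]
      have : shiftI (k := k) i (Finsupp.single m b) = 0 := by
        ext m'
        rw [shiftI_apply, Finsupp.single_apply, if_neg, Finsupp.zero_apply]
        rintro rfl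
        simp at hm
      rw [this, map_zero]
    · obtain ⟨m', rfl⟩ : ∃ m', m = m' + Finsupp.single i 1 := by
        refine ⟨m - Finsupp.single i 1, ?_⟩
        rw [tsub_add_cancel_of_le]
        rw [Finsupp.single_le_iff]
        omega
      have h1 := der_mon_add ht D.toAddMonoidHom hD y i h m'
      have h1' : D (mon y (m' + Finsupp.single i 1)) = mon y m' := h1
      rw [h1']
      have : shiftI (k := k) i (Finsupp.single (m' + Finsupp.single i 1) b) = Finsupp.single m' b := by
        ext m''
        rw [shiftI_apply, Finsupp.single_apply, Finsupp.single_apply]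
        congr 1
        exact propext (add_left_injective _).eq_iff
      rw [this, Phi_single]

/-- injectivity: the derivations and a retraction killing the `y_i`. -/
theorem Phi_injective (ht : TF0 B) (htA : TF0 A) (D : Fin r → B →ₗ[k] B)
    (hD : ∀ i x y, D i (x * y) = x * D i y + y * D i x)
    (hι : ∀ i a, D i (ι a) = 0) (h : ∀ i j, D i (y j) = if j = i then 1 else 0)
    (h0 : B →ₐ[k] A) (h0ι : ∀ a, h0 (ι a) = a) (h0y : ∀ i, h0 (y i) = 0) :
    Function.Injective (Phi ι y) := by
  classical
  have hz : ∀ f, h0 (Phi ι y f) = f 0 := by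
    intro f
    induction f using Finsupp.induction_linear with
    | zero => simp
    | add f g hf hg => rw [map_add, map_add, hf, hg, Finsupp.add_apply]
    | single m b =>
      rw [Phi_single, map_mul, h0ι, Finsupp.single_apply]
      by_cases hm : m = 0
      · subst hm
        rw [mon_zero, map_one, mul_one, if_pos rfl]
      · have := map_mon_eq_zero htA (h0 : B →+* A) y h0y m hm
        rw [if_neg hm, show h0 (mon y m) = 0 from this, mul_zero]
  rw [← LinearMap.ker_eq_bot, LinearMap.ker_eq_bot']
  have key : ∀ (n : ℕ) (m : Fin r →₀ ℕ), m.degree = n → ∀ f, Phi ι y f = 0 → f m = 0 := by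
    intro n
    induction n with
    | zero =>
      intro m hm f hf
      have : m = 0 := by simpa using (Finsupp.degree_eq_zero_iff m).1 hm
      subst this
      rw [← hz, hf, map_zero]
    | succ n ih =>
      intro m hm f hf
      have hm0 : m ≠ 0 := by
        rintro rfl
        simp at hm
      obtain ⟨i, hi⟩ : ∃ i, m i ≠ 0 := by
        by_contra hcon
        push Not at hcon
        exact hm0 (Finsupp.ext hcon)
      obtain ⟨m', rfl⟩ : ∃ m', m = m' + Finsupp.single i 1 := by
        refine ⟨m - Finsupp.single i 1, ?_⟩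
        rw [tsub_add_cancel_of_le]
        rw [Finsupp.single_le_iff]
        omega
      have hm' : m'.degree = n := by
        simp only [map_add, Finsupp.degree_single] at hm
        omega
      have := ih m' hm' (shiftI (k := k) i f)
        (by rw [← der_Phi ι y ht (D i) (hD i) (hι i) i (h i), hf, map_zero])
      rwa [shiftI_apply] at this
  intro f hf
  ext m
  exact key _ m rfl f hf

end Phi

end

end Groth.Agent.ResProp.EF.K785
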