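import Groth.Agent.ResProp.EF.K785.StepRet
import Groth.Agent.ResProp.EF.K624.Nodes

set_option autoImplicit false

universe u

open TensorProduct Groth.Agent.ResProp.EF.Grp Groth.Agent.ResProp.EF.K624

namespace Groth.Agent.ResProp.EF.K785

variable {k : Type u} [CommRing k]

/-- J9 -/
theorem invOfAdm [IsDomain k] [CharZero k] (H : Gp k) : InvOfAdm H := by
  intro E ι h
  obtain ⟨⟨σ, hσ⟩, h1⟩ := adm_ret h
  refine ⟨h1, σ.toLinearMap, fun b => ?_⟩
  exact DFunLike.congr_fun hσ b

/-- J9, with `IsLb`. -/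
theorem invOfAdm_isLb (p : ℕ) [hp : IsLb p k] (H : Gp k) : InvOfAdm H := by
  have := hp.dom
  have := hp.char0
  exact invOfAdm H

end Groth.Agent.ResProp.EF.K785
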