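import Groth.Agent.ResProp.EF.K785.StepRet
import Groth.Agent.ResProp.EF.K785.DP
import Groth.Agent.ResProp.EF.K350.ShiftData
import Mathlib.Algebra.DualNumber

set_option autoImplicit false

/-!
# Shift data of a one step extension (`K350.StmtOneStepShift`)
-/

universe u

open TensorProduct Groth.Agent.ResProp.EF.Grp Groth.Agent.ResProp.EF.K350

namespace Groth.Agent.ResProp.EF.K785

noncomputable section

variable {k : Type u} [CommRing k]

section general

variable {V A B : Type u} [AddCommGroup V] [Module k V] [CommRing A] [CommRing B] [Algebra k A]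
  [Algebra k B]

theorem coef1_lTensor (f : A →ₗ[k] B) (g : V →ₗ[k] k) (x : V ⊗[k] A) :
    coef1 (k := k) g (f.lTensor V x) = f (coef1 (k := k) g x) := by
  induction x with
  | zero => simp
  | add x y hx hy => rw [map_add, map_add, map_add, map_add, hx, hy]
  | tmul v a => simp [coef1]

/-- tensors are determined by their coordinates -/
theorem eq_sum_coef {ι : Type*} [Fintype ι] (b : Module.Basis ι k V) (x : V ⊗[k] A) :
    x = ∑ i, b i ⊗ₜ[k] (coef1 (k := k) (b.coord i) x) := by
  induction x with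
  | zero => simp
  | add x y hx hy =>
    simp only [map_add, TensorProduct.tmul_add, Finset.sum_add_distrib]
    rw [← hx, ← hy]
  | tmul v a =>
    simp only [coef1_tmul]
    have : ∀ i, b i ⊗ₜ[k] ((b.coord i) v • a) = ((b.coord i) v • b i) ⊗ₜ[k] a := by
      intro i; rw [TensorProduct.tmul_smul, TensorProduct.smul_tmul']
    simp only [this]
    rw [← TensorProduct.sum_tmul]
    congr 1
    simp

theorem ext_coef {ι : Type*} [Fintype ι] (b : Module.Basis ι k V) {x y : V ⊗[k] A}
    (h : ∀ i, coef1 (k := k) (b.coord i) x = coef1 (k := k) (b.coord i) y) : x = y := by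
  rw [eq_sum_coef b x, eq_sum_coef b y]
  exact Finset.sum_congr rfl fun i _ => by rw [h i]

end general

section dual

theorem eps_mem : (DualNumber.eps : DualNumber k) ∈ natI (DualNumber k) := by
  intro n
  rcases n with _ | _ | n
  · simp
  · simp
  · have : (DualNumber.eps : DualNumber k) ^ (n + 1 + 1) = 0 := by
      rw [pow_succ, pow_succ, mul_assoc, DualNumber.eps_mul_eps, mul_zero]
    rw [this]
    exact dvd_zero _

theorem tf_dual [IsDomain k] [CharZero k] (n : ℕ) (hn : n ≠ 0) : IsSMulRegular (DualNumber k) n := by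
  intro x y hxy
  have hk : ∀ a b : k, n • a = n • b → a = b := by
    intro a b h
    have hn' : (n : k) ≠ 0 := by exact_mod_cast hn
    rw [nsmul_eq_mul, nsmul_eq_mul] at h
    exact mul_left_cancel₀ hn' h
  have hxy' : n • x = n • y := hxy
  apply TrivSqZeroExt.ext
  · apply hk
    have := congrArg TrivSqZeroExt.fst hxy'
    rwa [TrivSqZeroExt.fst_smul, TrivSqZeroExt.fst_smul] at this
  · apply hk
    have := congrArg TrivSqZeroExt.snd hxy'
    rwa [TrivSqZeroExt.snd_smul, TrivSqZeroExt.snd_smul] at this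

end dual

section lam

variable [IsDomain k] [CharZero k] {E : Gp k} (S : OneStep E)

theorem reg_self (n : ℕ) (hn : n ≠ 0) : IsSMulRegular k n := by
  intro a b h
  have hn' : (n : k) ≠ 0 := by exact_mod_cast hn
  have h' : n • a = n • b := h
  rw [nsmul_eq_mul, nsmul_eq_mul] at h'
  exact mul_left_cancel₀ hn' h'

/-- existence of the point of `E'` over the identity of `E`, infinitesimally near the identity, with direction `w`. -/
theorem exists_pt (w : S.V.V) : ∃ h : S.E'.O →ₐ[k] DualNumber k,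
    (∀ a : E.O, h (S.ι a) = algebraMap k (DualNumber k) (Coalgebra.counit (R := k) a)) ∧
    (∀ a : S.E'.O, (h a).fst = Coalgebra.counit (R := k) a) ∧
    ∀ g : S.V.V →ₗ[k] k, (h (coef1 (k := k) g S.x)).snd = g w := by
  let g0 : E.O →ₐ[k] DualNumber k := (Algebra.ofId k (DualNumber k)).comp (Bialgebra.counitAlgHom k E.O)
  let y : S.V.V ⊗[k] DualNumber k :=
    (((Algebra.ofId k (DualNumber k)).comp (Bialgebra.counitAlgHom k S.E'.O)).toLinearMap).lTensor S.V.V S.x
      + w ⊗ₜ[k] (DualNumber.eps : DualNumber k)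
  have hy : ∀ f : S.V.V →ₗ[k] k, IsNat (coef1 (k := k) f y) := by
    intro f
    rw [map_add, coef1_lTensor, coef1_tmul]
    refine add_mem (s := natI (DualNumber k)) ?_ ?_
    · exact map_mem_natI (((Algebra.ofId k (DualNumber k)).comp
        (Bialgebra.counitAlgHom k S.E'.O) : S.E'.O →ₐ[k] DualNumber k) : S.E'.O →+* DualNumber k) (S.nx f)
    · rw [Algebra.smul_def]
      exact Ideal.mul_mem_left _ _ eps_mem
  obtain ⟨h, ⟨h1, h2⟩, _⟩ := S.univ (DualNumber k) tf_dual g0 y hy
  refine ⟨h, fun a => DFunLike.congr_fun h1 a, ?_, ?_⟩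
  · obtain ⟨_, _, hu⟩ := S.univ k reg_self (Bialgebra.counitAlgHom k E.O)
      ((Bialgebra.counitAlgHom k S.E'.O).toLinearMap.lTensor S.V.V S.x) (fun f => by
        rw [coef1_lTensor]
        exact map_mem_natI (Bialgebra.counitAlgHom k S.E'.O : S.E'.O →+* k) (S.nx f))
    have e1 := hu ((TrivSqZeroExt.fstHom k k k).comp h) ⟨by
        rw [AlgHom.comp_assoc, h1]
        ext a
        simp [g0], by
        rw [AlgHom.comp_toLinearMap, LinearMap.lTensor_comp, LinearMap.comp_apply, h2, map_add,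
          LinearMap.lTensor_tmul, ← LinearMap.comp_apply, ← LinearMap.lTensor_comp]
        have : (TrivSqZeroExt.fstHom k k k).toLinearMap (DualNumber.eps : DualNumber k) = 0 := by
          simp
        rw [this, tmul_zero, add_zero]
        congr 1⟩
    have e2 := hu (Bialgebra.counitAlgHom k S.E'.O) ⟨by ext a; simp, rfl⟩
    intro a
    have := DFunLike.congr_fun (e1.trans e2.symm) a
    simpa using this
  · intro g
    have h3 : h (coef1 (k := k) g S.x) = coef1 (k := k) g y := by
      rw [← h2, coef1_lTensor]; rfl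
    rw [h3, map_add, coef1_lTensor, coef1_tmul, TrivSqZeroExt.snd_add, TrivSqZeroExt.snd_smul,
      DualNumber.snd_eps, smul_eq_mul, mul_one]
    change (TrivSqZeroExt.snd (TrivSqZeroExt.inl _) : k) + _ = _
    rw [TrivSqZeroExt.snd_inl, zero_add]

/-- the derivation at the identity in direction `w` -/
def lam (w : S.V.V) : S.E'.O →ₗ[k] k :=
  (TrivSqZeroExt.sndHom k k).comp (exists_pt S w).choose.toLinearMap

theorem lam_mul (w : S.V.V) (a b : S.E'.O) : lam S w (a * b) =
    Coalgebra.counit (R := k) a * lam S w b + Coalgebra.counit (R := k) b * lam S w a := by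
  obtain ⟨h1, h2, h3⟩ := (exists_pt S w).choose_spec
  change ((exists_pt S w).choose (a * b)).snd = _ * ((exists_pt S w).choose b).snd +
    _ * ((exists_pt S w).choose a).snd
  rw [map_mul, DualNumber.snd_mul, ← h2 a, ← h2 b]
  ring

theorem lam_ι (w : S.V.V) (a : E.O) : lam S w (S.ι a) = 0 := by
  obtain ⟨h1, h2, h3⟩ := (exists_pt S w).choose_spec
  change ((exists_pt S w).choose (S.ι a)).snd = _
  rw [h1]
  rfl

theorem lam_one (w : S.V.V) : lam S w 1 = 0 := by
  have := lam_ι S w 1
  rwa [map_one] at this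

theorem lam_coef (w : S.V.V) (g : S.V.V →ₗ[k] k) : lam S w (coef1 (k := k) g S.x) = g w :=
  (exists_pt S w).choose_spec.2.2 g

theorem lTensor_lam_x [Module.Free k S.V.V] [Module.Finite k S.V.V] (w : S.V.V) :
    (lam S w).lTensor S.V.V S.x = w ⊗ₜ[k] (1 : k) := by
  apply ext_coef (Module.finBasis k S.V.V)
  intro i
  rw [coef1_lTensor, lam_coef, coef1_tmul]
  simp

end lam

section op

variable {B : Type u} [CommRing B] [HopfAlgebra k B] (l : B →ₗ[k] k)

theorem opR_mul (hl : ∀ a b : B, l (a * b) =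
    Coalgebra.counit (R := k) a * l b + Coalgebra.counit (R := k) b * l a) (a b : B) :
    opR k B l (a * b) = a * opR k B l b + b * opR k B l a := by
  have key : ∀ u v : B ⊗[k] B, TensorProduct.rid k B (l.lTensor B (u * v)) =
      TensorProduct.rid k B ((Coalgebra.counit (R := k) (A := B)).lTensor B u) *
        TensorProduct.rid k B (l.lTensor B v) +
      TensorProduct.rid k B ((Coalgebra.counit (R := k) (A := B)).lTensor B v) *
        TensorProduct.rid k B (l.lTensor B u) := by
    intro u v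
    induction u with
    | zero => simp
    | add u u' h h' => rw [add_mul, map_add, map_add, h, h', map_add, map_add, map_add, map_add]; ring
    | tmul a b =>
      induction v with
      | zero => simp
      | add u u' h h' => rw [mul_add, map_add, map_add, h, h', map_add, map_add, map_add, map_add]; ring
      | tmul c d =>
        simp only [Algebra.TensorProduct.tmul_mul_tmul, LinearMap.lTensor_tmul, hl,
          TensorProduct.rid_tmul, add_smul, mul_smul, smul_mul_assoc, mul_smul_comm]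
        rw [smul_comm (Coalgebra.counit (R := k) b), smul_comm (Coalgebra.counit (R := k) d),
          mul_comm c a]
  have := key (Coalgebra.comul (R := k) a) (Coalgebra.comul (R := k) b)
  rw [← Bialgebra.comul_mul] at this
  rw [Coalgebra.lTensor_counit_comul, Coalgebra.lTensor_counit_comul] at this
  simpa [opR] using this

theorem opR_ι {A : Type u} [CommRing A] [HopfAlgebra k A] (ι : A →ₐc[k] B)
    (hl : ∀ a, l (ι a) = 0) (a : A) : opR k B l (ι a) = 0 := by
  have h1 : Coalgebra.comul (R := k) (ι a) =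
      TensorProduct.map (ι : A →ₐ[k] B).toLinearMap (ι : A →ₐ[k] B).toLinearMap
        (Coalgebra.comul (R := k) a) := (CoalgHomClass.map_comp_comul_apply ι a).symm
  simp only [opR, LinearMap.comp_apply, LinearEquiv.coe_coe]
  rw [h1]
  have h2 : (l.lTensor B) ∘ₗ TensorProduct.map (ι : A →ₐ[k] B).toLinearMap
      (ι : A →ₐ[k] B).toLinearMap = 0 := by
    ext x y
    simp [hl]
  have h3 := LinearMap.congr_fun h2 (Coalgebra.comul (R := k) a)
  rw [LinearMap.comp_apply] at h3
  rw [h3]
  simp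

end op

section cocycle

variable [IsDomain k] [CharZero k] {E : Gp k} (S : OneStep E)

omit [IsDomain k] [CharZero k] in
theorem comod_res_coact (v : S.V.V) : (S.V.res S.ι).co.coact v =
    (S.ι : E.O →ₐ[k] S.E'.O).toLinearMap.lTensor S.V.V (S.V.co.coact v) := rfl

omit [IsDomain k] [CharZero k] in
theorem neg_smul_aux {W : Type u} [AddCommGroup W] [Module k W] (T : W) :
    ((-1 : k) ^ (0 + 1)) • T = -T := by
  rw [zero_add, pow_one, neg_smul, one_smul]

/-- `(id ⊗ θ_w) x = ρ(w)`. -/
theorem lTensor_op_x (w : S.V.V) :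
    haveI := S.free
    haveI := S.fin
    (opR k S.E'.O (lam S w)).lTensor S.V.V S.x =
      (S.ι : E.O →ₐ[k] S.E'.O).toLinearMap.lTensor S.V.V (S.V.co.coact w) := by
  have := S.free
  have := S.fin
  let L : (S.V.V ⊗[k] S.E'.O) ⊗[k] S.E'.O →ₗ[k] S.V.V ⊗[k] S.E'.O :=
    (TensorProduct.rid k _).toLinearMap ∘ₗ (lam S w).lTensor (S.V.V ⊗[k] S.E'.O)
  have h1 : L ((S.V.res S.ι).d 1 S.x) = 0 := by
    rw [S.hx]
    have : L ∘ₗ cres S.ι S.V 2 = 0 := by
      apply TensorProduct.ext'
      intro c a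
      change TensorProduct.rid k _ ((cres S.ι S.V 1 c) ⊗ₜ[k] (lam S w (S.ι a))) = 0
      rw [lam_ι, tmul_zero, map_zero]
    exact LinearMap.congr_fun this S.z
  have h2 : ∀ x : S.V.V ⊗[k] S.E'.O, L ((S.V.res S.ι).d 1 x) =
      (S.V.res S.ι).co.coact (TensorProduct.rid k _ ((lam S w).lTensor S.V.V x)) -
        (opR k S.E'.O (lam S w)).lTensor S.V.V x := by
    intro x
    induction x with
    | zero => simp
    | add x y hx hy =>
      rw [map_add, map_add, hx, hy]
      simp only [map_add]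
      abel
    | tmul v a =>
      have e1 : (S.V.res S.ι).d 1 (v ⊗ₜ[k] a) =
          ((S.V.res S.ι).co.coact v - v ⊗ₜ[k] (1 : S.E'.O)) ⊗ₜ[k] a -
            (TensorProduct.assoc k S.V.V S.E'.O S.E'.O).symm
              (v ⊗ₜ[k] (Coalgebra.comul (R := k) a - a ⊗ₜ[k] 1 - 1 ⊗ₜ[k] a)) := by
        have e0 : ∀ T : (S.V.V ⊗[k] S.E'.O) ⊗[k] S.E'.O, ((-1 : k) ^ (0 + 1)) • T = -T := fun T =>
          neg_smul_aux T
        change ((S.V.res S.ι).co.coact v - v ⊗ₜ[k] (1 : S.E'.O)) ⊗ₜ[k] a +
          ((-1 : k) ^ (0 + 1)) • Hoch.tail k S.E'.O S.V.V (v ⊗ₜ[k] a) = _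
        rw [e0, ← sub_eq_add_neg]
        rfl
      rw [e1]
      have e2 : ∀ u : S.E'.O ⊗[k] S.E'.O, L ((TensorProduct.assoc k S.V.V S.E'.O S.E'.O).symm
          (v ⊗ₜ[k] u)) = v ⊗ₜ[k] (TensorProduct.rid k _ ((lam S w).lTensor S.E'.O u)) := by
        intro u
        induction u with
        | zero => simp
        | add u u' h h' => rw [tmul_add, map_add, map_add, h, h', map_add, map_add, tmul_add]
        | tmul a b => simp [L]
      have e3 : ∀ u : S.V.V ⊗[k] S.E'.O, L (u ⊗ₜ[k] a) = lam S w a • u := by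
        intro u
        simp [L]
      have e4 : TensorProduct.rid k _ ((lam S w).lTensor S.E'.O
          (Coalgebra.comul (R := k) a - a ⊗ₜ[k] 1 - 1 ⊗ₜ[k] a)) =
          opR k S.E'.O (lam S w) a - lam S w a • 1 := by
        rw [map_sub, map_sub, map_sub, map_sub, LinearMap.lTensor_tmul, LinearMap.lTensor_tmul,
          lam_one, TensorProduct.rid_tmul, TensorProduct.rid_tmul, zero_smul, sub_zero]
        rfl
      rw [map_sub, e2, e3, e4, LinearMap.lTensor_tmul, LinearMap.lTensor_tmul, TensorProduct.rid_tmul,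
        map_smul, smul_sub, tmul_sub, tmul_smul]
      abel
  have h3 := h2 S.x
  rw [h1, lTensor_lam_x, TensorProduct.rid_tmul, one_smul] at h3
  rw [← comod_res_coact]
  exact (sub_eq_zero.1 h3.symm).symm

end cocycle

section matrix

variable {E : Gp k} (V : GMod E) {r : ℕ} (b : Module.Basis (Fin r) k V.V)

/-- matrix coefficients: `ρ(b_j) = Σ_i b_i ⊗ a_ij` -/
def mat (i j : Fin r) : E.O := coef1 (k := k) (b.coord i) (V.co.coact (b j))

theorem coact_basis (j : Fin r) : V.co.coact (b j) = ∑ i, b i ⊗ₜ[k] mat V b i j := eq_sum_coef b _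

theorem counit_mat (i j : Fin r) :
    Coalgebra.counit (R := k) (mat V b i j) = if i = j then 1 else 0 := by
  classical
  have h := LinearMap.congr_fun V.co.counit_comp (b j)
  have h' := congrArg (coef1 (k := k) (b.coord i)) h
  rw [LinearMap.comp_apply, coef1_lTensor, LinearMap.flip_apply, TensorProduct.mk_apply,
    coef1_tmul, Module.Basis.coord_apply, Module.Basis.repr_self, Finsupp.single_apply] at h'
  rw [mat, h', smul_eq_mul, mul_one]
  by_cases hij : i = j
  · rw [if_pos hij, if_pos hij.symm]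
  · rw [if_neg hij, if_neg (Ne.symm hij)]

theorem coef1_assoc (g : V.V →ₗ[k] k) (u : V.V ⊗[k] E.O) (a : E.O) :
    coef1 (k := k) g (TensorProduct.assoc k V.V E.O E.O (u ⊗ₜ[k] a)) =
      coef1 (k := k) g u ⊗ₜ[k] a := by
  induction u with
  | zero => simp
  | add u u' h h' => rw [add_tmul, map_add, map_add, h, h', map_add, add_tmul]
  | tmul v c => rw [TensorProduct.assoc_tmul, coef1_tmul, coef1_tmul, smul_tmul']

theorem comul_mat (i j : Fin r) :
    Coalgebra.comul (R := k) (mat V b i j) = ∑ l, mat V b i l ⊗ₜ[k] mat V b l j := by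
  have h := LinearMap.congr_fun V.co.coassoc (b j)
  have h' := congrArg (coef1 (k := k) (b.coord i)) h
  rw [LinearMap.comp_apply, LinearMap.comp_apply, LinearMap.comp_apply, coef1_lTensor] at h'
  rw [mat]
  refine h'.symm.trans ?_
  rw [coact_basis V b j, map_sum, map_sum, map_sum]
  refine Finset.sum_congr rfl fun l _ => ?_
  rw [LinearMap.rTensor_tmul]
  exact coef1_assoc V (b.coord i) _ _

theorem antipode_mat_mul (i j : Fin r) :
    ∑ l, HopfAlgebra.antipode k (mat V b i l) * mat V b l j = if i = j then 1 else 0 := by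
  have h := HopfAlgebra.mul_antipode_rTensor_comul_apply (R := k) (mat V b i j)
  rw [comul_mat, map_sum, map_sum, counit_mat] at h
  simp only [LinearMap.rTensor_tmul, LinearMap.mul'_apply] at h
  rw [h]
  split_ifs <;> simp

theorem mat_mul_antipode (i j : Fin r) :
    ∑ l, mat V b i l * HopfAlgebra.antipode k (mat V b l j) = if i = j then 1 else 0 := by
  have h := HopfAlgebra.mul_antipode_lTensor_comul_apply (R := k) (mat V b i j)
  rw [comul_mat, map_sum, map_sum, counit_mat] at h
  simp only [LinearMap.lTensor_tmul, LinearMap.mul'_apply] at h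
  rw [h]
  split_ifs <;> simp

end matrix

section assembly

variable [IsDomain k] [CharZero k] {E : Gp k} (S : OneStep E)

/-- a subalgebra containing `ι O(E)` and, as `nat` elements, the coefficients of `x`, is everything. -/
theorem top_of (R : Subalgebra k S.E'.O) (hι : ∀ a, S.ι a ∈ R)
    (hx : ∀ g : S.V.V →ₗ[k] k, ∃ h : coef1 (k := k) g S.x ∈ R,
      (⟨coef1 (k := k) g S.x, h⟩ : R) ∈ natI R) : R = ⊤ := by
  classical
  have := S.free
  have := S.fin
  have hreg : ∀ n : ℕ, n ≠ 0 → IsSMulRegular S.E'.O (n : ℕ) :=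
    fun n hn => torsionFree_of_free (k := k) S.E'.O n hn
  let b := Module.finBasis k S.V.V
  choose hx1 hx2 using hx
  let y : S.V.V ⊗[k] R := ∑ i, b i ⊗ₜ[k] (⟨coef1 (k := k) (b.coord i) S.x, hx1 _⟩ : R)
  have hy : ∀ g : S.V.V →ₗ[k] k, coef1 (k := k) g y ∈ natI R := by
    intro g
    rw [map_sum]
    refine sum_mem fun i _ => ?_
    rw [coef1_tmul, Algebra.smul_def]
    exact Ideal.mul_mem_left _ _ (hx2 _)
  have hyx : R.val.toLinearMap.lTensor S.V.V y = S.x := by
    rw [map_sum]
    conv_rhs => rw [eq_sum_coef b S.x]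
    rfl
  let ι' : E.O →ₐ[k] S.E'.O := (S.ι : E.O →ₐ[k] S.E'.O)
  obtain ⟨h, ⟨h1, h2⟩, _⟩ := S.univ R (reg_subalgebra R hreg) (ι'.codRestrict R hι) y (fun g => hy g)
  obtain ⟨h0, _, huniq⟩ := S.univ S.E'.O hreg ι' S.x (fun f => S.nx f)
  have e1 : R.val.comp h = h0 := huniq _ ⟨by
      rw [AlgHom.comp_assoc, h1]; rfl, by
      rw [AlgHom.comp_toLinearMap, LinearMap.lTensor_comp, LinearMap.comp_apply, h2]
      exact hyx⟩
  have e2 : AlgHom.id k S.E'.O = h0 := huniq _ ⟨rfl, by rw [lTensor_comp_val]; rfl⟩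
  rw [eq_top_iff]
  intro a _
  have h3 : R.val (h a) = a := by
    rw [← AlgHom.comp_apply, e1, ← e2]; rfl
  rw [← h3]
  exact (h a).2

omit [IsDomain k] [CharZero k] in
theorem coef1_expand {r : ℕ} {V : Type u} [AddCommGroup V] [Module k V]
    (b : Module.Basis (Fin r) k V) {A : Type u} [CommRing A] [Algebra k A] (g : V →ₗ[k] k)
    (x : V ⊗[k] A) : coef1 (k := k) g x = ∑ i, g (b i) • coef1 (k := k) (b.coord i) x := by
  conv_lhs => rw [eq_sum_coef b x, map_sum]
  exact Finset.sum_congr rfl fun i _ => coef1_tmul _ _ _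

/-- **B1**: shift data of a one step extension. -/
theorem shiftData : Nonempty (ShiftData k E.O S.E'.O S.ι) := by
  classical
  have hfree := S.free
  have hfin := S.fin
  have hreg : ∀ n : ℕ, n ≠ 0 → IsSMulRegular S.E'.O (n : ℕ) :=
    fun n hn => torsionFree_of_free (k := k) S.E'.O n hn
  have ht : TF0 S.E'.O := ht_of_reg hreg
  have htA : TF0 E.O := ht_of_reg (fun n hn => torsionFree_of_free (k := k) E.O n hn)
  let b := Module.finBasis k S.V.V
  let X : Fin (Module.finrank k S.V.V) → S.E'.O := fun j => coef1 (k := k) (b.coord j) S.x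
  have hX : ∀ j, X j ∈ natI S.E'.O := fun j => S.nx _
  let Y : Fin (Module.finrank k S.V.V) → natI S.E'.O := fun i =>
    ⟨∑ j, S.ι (HopfAlgebra.antipode k (mat S.V b i j)) * X j,
      sum_mem fun j _ => Ideal.mul_mem_left _ _ (hX j)⟩
  have hth : ∀ i j, opR k S.E'.O (lam S (b i)) (X j) = S.ι (mat S.V b j i) := by
    intro i j
    have := congrArg (coef1 (k := k) (b.coord j)) (lTensor_op_x S (b i))
    rw [coef1_lTensor, coef1_lTensor] at this
    exact this
  have hD : ∀ i x y, opR k S.E'.O (lam S (b i)) (x * y) =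
      x * opR k S.E'.O (lam S (b i)) y + y * opR k S.E'.O (lam S (b i)) x :=
    fun i => opR_mul _ (lam_mul S (b i))
  have hDι : ∀ i a, opR k S.E'.O (lam S (b i)) (S.ι a) = 0 := fun i => opR_ι _ S.ι (lam_ι S (b i))
  have hY : ∀ i j, opR k S.E'.O (lam S (b i)) (Y j) = if j = i then 1 else 0 := by
    intro i j
    change opR k S.E'.O (lam S (b i)) (∑ l, S.ι (HopfAlgebra.antipode k (mat S.V b j l)) * X l) = _
    rw [map_sum]
    have : ∀ l, opR k S.E'.O (lam S (b i)) (S.ι (HopfAlgebra.antipode k (mat S.V b j l)) * X l) =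
        S.ι (HopfAlgebra.antipode k (mat S.V b j l) * mat S.V b l i) := by
      intro l
      rw [hD, hDι, mul_zero, add_zero, hth, map_mul]
    rw [Finset.sum_congr rfl fun l _ => this l, ← map_sum, antipode_mat_mul]
    split_ifs <;> simp
  have hXY : ∀ j, X j = ∑ i, S.ι (mat S.V b j i) * (Y i : S.E'.O) := by
    intro j
    have h1 : ∀ i, S.ι (mat S.V b j i) * (Y i : S.E'.O) =
        ∑ l, S.ι (mat S.V b j i * HopfAlgebra.antipode k (mat S.V b i l)) * X l := by
      intro i
      change S.ι (mat S.V b j i) * (∑ l, S.ι (HopfAlgebra.antipode k (mat S.V b i l)) * X l) = _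
      rw [Finset.mul_sum]
      refine Finset.sum_congr rfl fun l _ => ?_
      rw [map_mul, mul_assoc]
    rw [Finset.sum_congr rfl fun i _ => h1 i, Finset.sum_comm]
    have h2 : ∀ l, ∑ i, S.ι (mat S.V b j i * HopfAlgebra.antipode k (mat S.V b i l)) * X l =
        if j = l then X l else 0 := by
      intro l
      rw [← Finset.sum_mul, ← map_sum, mat_mul_antipode]
      split_ifs <;> simp
    rw [Finset.sum_congr rfl fun l _ => h2 l]
    simp
  obtain ⟨h0, ⟨h01, h02⟩, _⟩ := S.univ E.O (fun n hn => torsionFree_of_free (k := k) E.O n hn)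
    (AlgHom.id k E.O) 0 (fun f => by rw [map_zero]; exact (natI E.O).zero_mem)
  have h0ι : ∀ a, h0 (S.ι a) = a := fun a => DFunLike.congr_fun h01 a
  have h0X : ∀ j, h0 (X j) = 0 := by
    intro j
    have := congrArg (coef1 (k := k) (b.coord j)) h02
    rw [coef1_lTensor, map_zero] at this
    exact this
  have h0Y : ∀ j, h0 (Y j) = 0 := by
    intro j
    change h0 (∑ l, S.ι (HopfAlgebra.antipode k (mat S.V b j l)) * X l) = 0
    rw [map_sum]
    refine Finset.sum_eq_zero fun l _ => ?_
    rw [map_mul, h0X, mul_zero]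
  let ι' : E.O →ₐ[k] S.E'.O := (S.ι : E.O →ₐ[k] S.E'.O)
  have hinj : Function.Injective (Phi ι' Y) :=
    Phi_injective ι' Y ht htA (fun i => opR k S.E'.O (lam S (b i))) hD hDι hY h0 h0ι h0Y
  have htop : PhiSub ι' Y ht = ⊤ := by
    refine top_of S _ (ι_mem_PhiSub ι' Y ht) fun g => ?_
    have hYR : ∀ i, (⟨Y i, by simpa [dp_one] using dp_mem_PhiSub ι' Y ht i 1⟩ : PhiSub ι' Y ht) ∈
        natI (PhiSub ι' Y ht) := fun i => mem_natI_sub _ (Y i) (dp_mem_PhiSub ι' Y ht i)
    have hXR : ∀ j, ∃ h : X j ∈ PhiSub ι' Y ht, (⟨X j, h⟩ : PhiSub ι' Y ht) ∈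
        natI (PhiSub ι' Y ht) := by
      intro j
      have hmem : (∑ i, (⟨S.ι (mat S.V b j i), ι_mem_PhiSub ι' Y ht _⟩ : PhiSub ι' Y ht) *
          ⟨Y i, by simpa [dp_one] using dp_mem_PhiSub ι' Y ht i 1⟩) ∈ natI (PhiSub ι' Y ht) :=
        sum_mem fun i _ => Ideal.mul_mem_left _ _ (hYR i)
      have hval : ((∑ i, (⟨S.ι (mat S.V b j i), ι_mem_PhiSub ι' Y ht _⟩ : PhiSub ι' Y ht) *
          ⟨Y i, by simpa [dp_one] using dp_mem_PhiSub ι' Y ht i 1⟩ : PhiSub ι' Y ht) : S.E'.O) =
          X j := by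
        rw [hXY j, AddSubmonoidClass.coe_finsetSum]
        rfl
      have hj : X j ∈ PhiSub ι' Y ht := by
        rw [← hval]
        exact Subtype.coe_prop _
      refine ⟨hj, ?_⟩
      have heq : (⟨X j, hj⟩ : PhiSub ι' Y ht) = _ := Subtype.ext hval.symm
      rw [heq]
      exact hmem
    choose hX1 hX2 using hXR
    have hmem : (∑ i, g (b i) • (⟨X i, hX1 i⟩ : PhiSub ι' Y ht)) ∈ natI (PhiSub ι' Y ht) :=
      sum_mem fun i _ => by
        rw [Algebra.smul_def]
        exact Ideal.mul_mem_left _ _ (hX2 i)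
    have hval : ((∑ i, g (b i) • (⟨X i, hX1 i⟩ : PhiSub ι' Y ht) : PhiSub ι' Y ht) : S.E'.O) =
        coef1 (k := k) g S.x := by
      rw [coef1_expand b g S.x, AddSubmonoidClass.coe_finsetSum]
      rfl
    have hj : coef1 (k := k) g S.x ∈ PhiSub ι' Y ht := by
      rw [← hval]
      exact Subtype.coe_prop _
    refine ⟨hj, ?_⟩
    have heq : (⟨coef1 (k := k) g S.x, hj⟩ : PhiSub ι' Y ht) = _ := Subtype.ext hval.symm
    rw [heq]
    exact hmem
  have hsurj : Function.Surjective (Phi ι' Y) := by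
    intro a
    have : a ∈ PhiSub ι' Y ht := by rw [htop]; exact Algebra.mem_top
    exact this
  let e := LinearEquiv.ofBijective (Phi ι' Y) ⟨hinj, hsurj⟩
  have he : ∀ f, e.symm (Phi ι' Y f) = f := fun f => e.symm_apply_apply f
  refine ⟨{ r := Module.finrank k S.V.V, lam := fun i => lam S (b i), lam_mul := fun i => lam_mul S (b i),
            lam_ι := fun i => lam_ι S (b i), e := e.symm, e_mul := ?_, e_one := ?_, e_op := ?_ }⟩
  · intro a f m
    obtain ⟨g, rfl⟩ := hsurj f
    have h1 : S.ι a * Phi ι' Y g = Phi ι' Y (a • g) := (Phi_smul ι' Y a g).symm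
    rw [h1, he, he]
    rfl
  · have h1 : (1 : S.E'.O) = Phi ι' Y (Finsupp.single 0 1) := by simp [mon_zero]
    rw [h1, he]
  · intro i f m
    obtain ⟨g, rfl⟩ := hsurj f
    rw [der_Phi ι' Y ht (opR k S.E'.O (lam S (b i))) (hD i) (hDι i) i (hY i), he, he]
    rfl

end assembly

/-- **B1**, the literal statement of `K350/ShiftData.lean`. -/
theorem stmtOneStepShift : StmtOneStepShift.{u} := by
  intro p k _ hp E S
  have := hp.dom
  have := hp.char0
  exact shiftData S

end

end Groth.Agent.ResProp.EF.K785
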