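import Groth.Agent.ResProp.EF.K785.Nat
import Groth.Agent.ResProp.EF.Grp

set_option autoImplicit false

/-!
# The invariant (K1) of the killing lemma: `O(E) = O(H) + O(E)^nat`, with a ring retraction

From the universal property of one step extensions only.
-/

universe u

open TensorProduct Groth.Agent.ResProp.EF.Grp

namespace Groth.Agent.ResProp.EF.K785

noncomputable section

theorem isNat_iff {A : Type u} [CommRing A] {a : A} : IsNat a ↔ a ∈ natI A := Iff.rfl

variable {k : Type u} [CommRing k]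

/-- torsion-freeness of a free algebra over a domain of characteristic zero, in the form of `OneStep.univ`. -/
theorem torsionFree_of_free [IsDomain k] [CharZero k] (M : Type u) [AddCommGroup M] [Module k M]
    [Module.Free k M] (n : ℕ) (hn : n ≠ 0) : IsSMulRegular M (n : ℕ) := by
  have h : IsSMulRegular M (n : k) := by
    intro x y hxy
    have hk : (n : k) ≠ 0 := by exact_mod_cast hn
    have hxy' : (n : k) • (x - y) = 0 := by
      have : (n : k) • x = (n : k) • y := hxy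
      rw [smul_sub, this, sub_self]
    have b := Module.Free.chooseBasis k M
    have : x - y = 0 := by
      apply b.ext_elem
      intro i
      have h1 := congrArg (fun v => b.repr v i) hxy'
      simp only [map_smul, Finsupp.smul_apply, smul_eq_mul, map_zero, Finsupp.zero_apply] at h1
      rcases mul_eq_zero.1 h1 with h2 | h2
      · exact absurd h2 hk
      · simpa using h2
    exact sub_eq_zero.1 this
  intro x y hxy
  apply h
  have : (n : ℕ) • x = n • y := hxy
  change (n : k) • x = (n : k) • y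
  rw [Nat.cast_smul_eq_nsmul, Nat.cast_smul_eq_nsmul]
  exact this

/-- the subalgebra `f(B) + A^nat` of `A`. -/
def natSub {A B : Type u} [CommRing A] [CommRing B] [Algebra k A] [Algebra k B] (f : B →ₐ[k] A) :
    Subalgebra k A where
  carrier := {a | ∃ b : B, a - f b ∈ natI A}
  zero_mem' := ⟨0, by simp⟩
  one_mem' := ⟨1, by simp⟩
  add_mem' := by
    rintro a a' ⟨b, hb⟩ ⟨b', hb'⟩
    refine ⟨b + b', ?_⟩
    have : a + a' - f (b + b') = (a - f b) + (a' - f b') := by rw [map_add]; ring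
    rw [this]; exact add_mem hb hb'
  mul_mem' := by
    rintro a a' ⟨b, hb⟩ ⟨b', hb'⟩
    refine ⟨b * b', ?_⟩
    have : a * a' - f (b * b') = (a - f b) * a' + f b * (a' - f b') := by rw [map_mul]; ring
    rw [this]
    exact add_mem (Ideal.mul_mem_right _ _ hb) (Ideal.mul_mem_left _ _ hb')
  algebraMap_mem' := fun r => ⟨algebraMap k B r, by simp⟩

theorem natI_le_natSub {A B : Type u} [CommRing A] [CommRing B] [Algebra k A] [Algebra k B]
    (f : B →ₐ[k] A) {a : A} (ha : a ∈ natI A) : a ∈ natSub (k := k) f := ⟨0, by simpa using ha⟩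

/-- elements of `A^nat` are in the `nat` ideal of the subalgebra `f(B) + A^nat`. -/
theorem mem_natI_natSub {A B : Type u} [CommRing A] [CommRing B] [Algebra k A] [Algebra k B]
    (ht : ∀ (n : ℕ), n ≠ 0 → ∀ x : A, (n : A) * x = 0 → x = 0)
    (f : B →ₐ[k] A) {a : A} (ha : a ∈ natI A) :
    (⟨a, natI_le_natSub f ha⟩ : natSub (k := k) f) ∈ natI (natSub (k := k) f) := by
  intro n
  rcases Nat.eq_zero_or_pos n with rfl | hn
  · simp
  · obtain ⟨b, hb⟩ := ha n
    have hb' : b ∈ natI A := mem_natI_of_factorial_mul ht ha hn.ne' hb.symm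
    refine ⟨⟨b, natI_le_natSub f hb'⟩, ?_⟩
    apply Subtype.ext
    simpa using hb

theorem ht_of_reg {A : Type u} [CommRing A]
    (h : ∀ n : ℕ, n ≠ 0 → IsSMulRegular A (n : ℕ)) :
    ∀ (n : ℕ), n ≠ 0 → ∀ x : A, (n : A) * x = 0 → x = 0 := by
  intro n hn x hx
  apply h n hn
  change n • x = n • (0 : A)
  rw [nsmul_eq_mul, hx, smul_zero]

theorem reg_subalgebra {A : Type u} [CommRing A] [Algebra k A] (R : Subalgebra k A)
    (h : ∀ n : ℕ, n ≠ 0 → IsSMulRegular A (n : ℕ)) (n : ℕ) (hn : n ≠ 0) :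
    IsSMulRegular R (n : ℕ) := by
  intro x y hxy
  apply Subtype.ext
  apply h n hn
  have : ((n • x : R) : A) = ((n • y : R) : A) := congrArg _ hxy
  simpa using this

theorem coef1_tmul {V A : Type u} [AddCommGroup V] [Module k V] [CommRing A] [Algebra k A]
    (f : V →ₗ[k] k) (v : V) (a : A) : coef1 (k := k) f (v ⊗ₜ[k] a) = f v • a := by
  simp [coef1]

/-- a tensor with nat coefficients comes from the subalgebra. -/
theorem exists_lift_nat {V A B : Type u} [AddCommGroup V] [Module k V] [Module.Free k V]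
    [Module.Finite k V] [CommRing A] [CommRing B] [Algebra k A] [Algebra k B]
    (ht : ∀ (n : ℕ), n ≠ 0 → ∀ x : A, (n : A) * x = 0 → x = 0) (f : B →ₐ[k] A) (x : V ⊗[k] A)
    (hx : ∀ g : V →ₗ[k] k, coef1 (k := k) g x ∈ natI A) :
    ∃ y : V ⊗[k] (natSub (k := k) f), (∀ g : V →ₗ[k] k, coef1 (k := k) g y ∈ natI (natSub (k := k) f)) ∧
      (natSub (k := k) f).val.toLinearMap.lTensor V y = x := by
  classical
  let b := Module.Free.chooseBasis k V
  let c : ∀ i, natSub (k := k) f := fun i => ⟨coef1 (k := k) (b.coord i) x, natI_le_natSub f (hx _)⟩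
  refine ⟨∑ i, b i ⊗ₜ[k] c i, ?_, ?_⟩
  · intro g
    rw [map_sum]
    refine sum_mem fun i _ => ?_
    rw [coef1_tmul, Algebra.smul_def]
    exact Ideal.mul_mem_left _ _ (mem_natI_natSub ht f (hx _))
  · rw [map_sum]
    have key : ∀ x : V ⊗[k] A, ∑ i, b i ⊗ₜ[k] (coef1 (k := k) (b.coord i) x) = x := by
      intro x
      induction x with
      | zero => simp
      | add x y hx hy =>
        simp only [map_add, TensorProduct.tmul_add, Finset.sum_add_distrib]
        rw [hx, hy]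
      | tmul v a =>
        simp only [coef1_tmul]
        have : ∀ i, b i ⊗ₜ[k] ((b.coord i) v • a) = ((b.coord i) v • b i) ⊗ₜ[k] a := by
          intro i; rw [TensorProduct.tmul_smul, TensorProduct.smul_tmul']
        simp only [this]
        rw [← TensorProduct.sum_tmul]
        congr 1
        simpa using b.sum_repr v
    conv_rhs => rw [← key x]
    rfl

theorem lTensor_comp_val {V A : Type u} [AddCommGroup V] [Module k V] [CommRing A] [Algebra k A] :
    (AlgHom.id k A).toLinearMap.lTensor V = LinearMap.id := by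
  ext; rfl

/-- (K1) for a one step extension. -/
theorem stepRet [IsDomain k] [CharZero k] {E : Gp k} (S : OneStep E) :
    (∃ σ : S.E'.O →ₐ[k] E.O, σ.comp (S.ι : E.O →ₐ[k] S.E'.O) = AlgHom.id k E.O) ∧
      ∀ a : S.E'.O, ∃ b : E.O, IsNat (a - S.ι b) := by
  have := S.free
  have := S.fin
  have hreg : ∀ n : ℕ, n ≠ 0 → IsSMulRegular S.E'.O (n : ℕ) :=
    fun n hn => torsionFree_of_free (k := k) S.E'.O n hn
  constructor
  · obtain ⟨h, ⟨h1, _⟩, _⟩ := S.univ E.O (fun n hn => torsionFree_of_free (k := k) E.O n hn)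
      (AlgHom.id k E.O) 0 (fun f => by rw [map_zero]; exact (natI E.O).zero_mem)
    exact ⟨h, h1⟩
  · let ι' : E.O →ₐ[k] S.E'.O := (S.ι : E.O →ₐ[k] S.E'.O)
    let R := natSub (k := k) ι'
    obtain ⟨y, hy, hyx⟩ := exists_lift_nat (k := k) (ht_of_reg hreg) ι' S.x (fun g => S.nx g)
    have hmem : ∀ b : E.O, ι' b ∈ R := fun b => ⟨b, by simp⟩
    obtain ⟨h, ⟨h1, h2⟩, _⟩ := S.univ R (reg_subalgebra R hreg)
      (ι'.codRestrict R hmem) y (fun g => hy g)
    obtain ⟨h0, _, huniq⟩ := S.univ S.E'.O hreg ι' S.x (fun f => S.nx f)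
    have e1 : R.val.comp h = h0 := huniq _ ⟨by
        rw [AlgHom.comp_assoc, h1]; rfl, by
        rw [AlgHom.comp_toLinearMap, LinearMap.lTensor_comp, LinearMap.comp_apply, h2]
        exact hyx⟩
    have e2 : AlgHom.id k S.E'.O = h0 := huniq _ ⟨rfl, by rw [lTensor_comp_val]; rfl⟩
    intro a
    have : R.val (h a) = a := by
      rw [← AlgHom.comp_apply, e1, ← e2]; rfl
    obtain ⟨b, hb⟩ := (h a).2
    refine ⟨b, ?_⟩
    have hb' : ((h a : R) : S.E'.O) - ι' b ∈ natI S.E'.O := hb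
    have ha : ((h a : R) : S.E'.O) = a := this
    rw [ha] at hb'
    exact hb'

/-- (K1) along admissible groups, `j = 1`. -/
theorem adm_ret [IsDomain k] [CharZero k] {H E : Gp k} {ι : H.O →ₐc[k] E.O} (h : Adm H E ι) :
    (∃ σ : E.O →ₐ[k] H.O, σ.comp (ι : H.O →ₐ[k] E.O) = AlgHom.id k H.O) ∧
      ∀ a : E.O, ∃ b : H.O, IsNat (a - ι b) := by
  induction h with
  | base =>
    exact ⟨⟨AlgHom.id k H.O, rfl⟩, fun a => ⟨a, by
      simp only [BialgHom.id_apply, sub_self]; exact (natI H.O).zero_mem⟩⟩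
  | step E ι h S ih =>
    obtain ⟨⟨σ, hσ⟩, hs⟩ := ih
    obtain ⟨⟨τ, hτ⟩, ht⟩ := stepRet S
    refine ⟨⟨σ.comp τ, ?_⟩, ?_⟩
    · ext b
      have h1 : τ (S.ι (ι b)) = ι b := by
        have := DFunLike.congr_fun hτ (ι b)
        simpa using this
      have h2 : σ (ι b) = b := by
        have := DFunLike.congr_fun hσ b
        simpa using this
      change σ (τ (S.ι (ι b))) = b
      rw [h1, h2]
    · intro a
      obtain ⟨b, hb⟩ := ht a
      obtain ⟨c, hc⟩ := hs b
      refine ⟨c, ?_⟩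
      have h3 : S.ι b - S.ι (ι c) ∈ natI S.E'.O := by
        have := map_mem_natI (S.ι : E.O →+* S.E'.O) (isNat_iff.1 hc)
        simpa using this
      have h4 : a - (S.ι.comp ι) c = (a - S.ι b) + (S.ι b - S.ι (ι c)) := by
        change a - S.ι (ι c) = _
        ring
      rw [h4]
      exact (natI S.E'.O).add_mem hb h3

/-- tensor powers of the decomposition. -/
theorem tensor_nat {A A' B B' : Type u} [CommRing A] [CommRing A'] [CommRing B] [CommRing B']
    [Algebra k A] [Algebra k A'] [Algebra k B] [Algebra k B'] (i : B →ₐ[k] A) (i' : B' →ₐ[k] A')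
    (h : ∀ a : A, ∃ b : B, a - i b ∈ natI A) (h' : ∀ a : A', ∃ b : B', a - i' b ∈ natI A') :
    ∀ a : A ⊗[k] A', ∃ b : B ⊗[k] B', a - Algebra.TensorProduct.map i i' b ∈ natI (A ⊗[k] A') := by
  intro a
  change a ∈ natSub (k := k) (Algebra.TensorProduct.map i i')
  have h1 : ∀ a : A, a ⊗ₜ[k] (1 : A') ∈ natSub (k := k) (Algebra.TensorProduct.map i i') := by
    intro a
    obtain ⟨b, hb⟩ := h a
    refine ⟨b ⊗ₜ[k] 1, ?_⟩
    have := map_mem_natI (Algebra.TensorProduct.includeLeft : A →ₐ[k] A ⊗[k] A').toRingHom hb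
    have e : a ⊗ₜ[k] (1 : A') - Algebra.TensorProduct.map i i' (b ⊗ₜ[k] 1) = (a - i b) ⊗ₜ[k] 1 := by
      rw [Algebra.TensorProduct.map_tmul, map_one, TensorProduct.sub_tmul]
    rw [e]; exact this
  have h2 : ∀ a : A', (1 : A) ⊗ₜ[k] a ∈ natSub (k := k) (Algebra.TensorProduct.map i i') := by
    intro a
    obtain ⟨b, hb⟩ := h' a
    refine ⟨1 ⊗ₜ[k] b, ?_⟩
    have := map_mem_natI (Algebra.TensorProduct.includeRight : A' →ₐ[k] A ⊗[k] A').toRingHom hb
    have e : (1 : A) ⊗ₜ[k] a - Algebra.TensorProduct.map i i' (1 ⊗ₜ[k] b) = 1 ⊗ₜ[k] (a - i' b) := by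
      rw [Algebra.TensorProduct.map_tmul, map_one, TensorProduct.tmul_sub]
    rw [e]; exact this
  induction a with
  | zero => exact zero_mem _
  | add x y hx hy => exact add_mem hx hy
  | tmul x y =>
    have : x ⊗ₜ[k] y = (x ⊗ₜ[k] (1 : A')) * ((1 : A) ⊗ₜ[k] y) := by
      rw [Algebra.TensorProduct.tmul_mul_tmul, mul_one, one_mul]
    rw [this]
    exact mul_mem (h1 x) (h2 y)

theorem tensor_ret {A A' B B' : Type u} [CommRing A] [CommRing A'] [CommRing B] [CommRing B']
    [Algebra k A] [Algebra k A'] [Algebra k B] [Algebra k B'] (i : B →ₐ[k] A) (i' : B' →ₐ[k] A')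
    (σ : A →ₐ[k] B) (σ' : A' →ₐ[k] B') (h : σ.comp i = AlgHom.id k B) (h' : σ'.comp i' = AlgHom.id k B') :
    (Algebra.TensorProduct.map σ σ').comp (Algebra.TensorProduct.map i i')
      = AlgHom.id k (B ⊗[k] B') := by
  rw [← Algebra.TensorProduct.map_comp, h, h', Algebra.TensorProduct.map_id]

/-- The invariant (K1): for an admissible `E → H` there is a ring retraction `σ` of `ι : O(H) → O(E)` and
`O(E^j) = O(H^j) + O(E^j)^nat`, `j = 1, 2, 3`. -/
theorem adm_inv [IsDomain k] [CharZero k] {H E : Gp k} {ι : H.O →ₐc[k] E.O} (h : Adm H E ι) :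
    ∃ σ : E.O →ₐ[k] H.O, σ.comp (ι : H.O →ₐ[k] E.O) = AlgHom.id k H.O ∧
      (∀ a : E.O, ∃ b : H.O, IsNat (a - (ι : H.O →ₐ[k] E.O) b)) ∧
      (∀ a : E.O ⊗[k] E.O, ∃ b : H.O ⊗[k] H.O,
        IsNat (a - Algebra.TensorProduct.map (ι : H.O →ₐ[k] E.O) (ι : H.O →ₐ[k] E.O) b)) ∧
      (∀ a : E.O ⊗[k] E.O ⊗[k] E.O, ∃ b : H.O ⊗[k] H.O ⊗[k] H.O,
        IsNat (a - Algebra.TensorProduct.map
          (Algebra.TensorProduct.map (ι : H.O →ₐ[k] E.O) (ι : H.O →ₐ[k] E.O)) (ι : H.O →ₐ[k] E.O) b)) := by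
  obtain ⟨⟨σ, hσ⟩, h1⟩ := adm_ret h
  have h1' : ∀ a : E.O, ∃ b : H.O, a - (ι : H.O →ₐ[k] E.O) b ∈ natI E.O := fun a => h1 a
  have h2 := tensor_nat (ι : H.O →ₐ[k] E.O) (ι : H.O →ₐ[k] E.O) h1' h1'
  exact ⟨σ, hσ, h1', h2, tensor_nat _ (ι : H.O →ₐ[k] E.O) h2 h1'⟩

end

end Groth.Agent.ResProp.EF.K785
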